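import Cfsg.Agent.H843.N11
import Cfsg.Agent.H843.Syl

/-!
# S3509, row `Fi24'`: the transpositions commuting with an element of order 11 (helper759, statement by helper86)
-/

set_option autoImplicit false

namespace Cfsg.Agent.H759.RG

open Cfsg Cfsg.Agent.Fischer Cfsg.Agent.Lib.PermNet Cfsg.Agent.Lib.PermNetPt Cfsg.Agent.Fischer.Fi24RepDef
open Cfsg.Agent.Fischer.Fi24Rep
open Cfsg.Agent.R08.FiTwentyFour (L finite_Fi24)
open Cfsg.Agent.KFacts.FiTF.FixMask Cfsg.Agent.H843.Pat Cfsg.Agent.H843.Fi24N Cfsg.Agent.H843.D11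

/-- exactly three transpositions commute with an element of order 11 of `Fi24`, and they commute -/
theorem eleven {y : Spor.Fi24} (hy : orderOf y = 11) :
    ∃ d e f : Spor.Fi24, d ∈ Cfsg.Agent.R08.FiTwentyFour.L ∧ e ∈ Cfsg.Agent.R08.FiTwentyFour.L ∧
      f ∈ Cfsg.Agent.R08.FiTwentyFour.L ∧ Commute d e ∧ Commute d f ∧ Commute e f ∧ Commute d y ∧ Commute e y ∧
      Commute f y ∧ ∀ a ∈ Cfsg.Agent.R08.FiTwentyFour.L, Commute a y → a = d ∨ a = e ∨ a = f := by
  have : Finite Spor.Fi24 := finite_Fi24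
  have hnd : ¬ 11 ^ 2 ∣ Nat.card Cfsg.Spor.Fi24 := by
    rw [card_Fi24]
    norm_num
  obtain ⟨g, hg⟩ := H843.Syl.exists_conj (by norm_num) hnd (Subgroup.zpowers D.x) (Subgroup.zpowers y)
    (by rw [Nat.card_zpowers, order]) (by rw [Nat.card_zpowers, hy])
  have hinter := inter
  -- commuting with `y`
  have hc1 : ∀ a : Spor.Fi24, Commute (g * a * g⁻¹) y ↔
      a ∈ Subgroup.centralizer (Subgroup.zpowers D.x : Set Spor.Fi24) := by
    intro a
    rw [Subgroup.mem_centralizer_iff]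
    constructor
    · intro h w hw
      have h1 : g * w * g⁻¹ ∈ Subgroup.zpowers y := by
        rw [← hg]
        exact ⟨w, hw, rfl⟩
      obtain ⟨k, hk⟩ := Subgroup.mem_zpowers_iff.1 h1
      have h2 : Commute (g * a * g⁻¹) (g * w * g⁻¹) := by
        rw [← hk]
        exact h.zpow_right k
      have h3 : g * (a * w) * g⁻¹ = g * (w * a) * g⁻¹ := by
        calc g * (a * w) * g⁻¹ = (g * a * g⁻¹) * (g * w * g⁻¹) := by group
          _ = (g * w * g⁻¹) * (g * a * g⁻¹) := h2.eq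
          _ = g * (w * a) * g⁻¹ := by group
      exact (mul_left_cancel (mul_right_cancel h3)).symm
    · intro h
      have h1 : y ∈ (Subgroup.zpowers D.x).map (MulAut.conj g).toMonoidHom := by
        rw [hg]
        exact Subgroup.mem_zpowers y
      obtain ⟨w, hw, hwy⟩ := h1
      have h2 : g * w * g⁻¹ = y := hwy
      have h3 := h w hw
      show g * a * g⁻¹ * y = y * (g * a * g⁻¹)
      rw [← h2]
      calc g * a * g⁻¹ * (g * w * g⁻¹) = g * (a * w) * g⁻¹ := by group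
        _ = g * (w * a) * g⁻¹ := by rw [h3]
        _ = g * w * g⁻¹ * (g * a * g⁻¹) := by group
  have cj : ∀ {a b : Spor.Fi24}, Commute a b → Commute (g * a * g⁻¹) (g * b * g⁻¹) := by
    intro a b h
    show g * a * g⁻¹ * (g * b * g⁻¹) = g * b * g⁻¹ * (g * a * g⁻¹)
    calc g * a * g⁻¹ * (g * b * g⁻¹) = g * (a * b) * g⁻¹ := by group
      _ = g * (b * a) * g⁻¹ := by rw [h.eq]
      _ = _ := by group
  have hm : ∀ {a : Spor.Fi24}, a ∈ ({Fi24Rep.gen .i, word d2w, word d3w} : Set Spor.Fi24) →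
      a ∈ Subgroup.centralizer (Subgroup.zpowers D.x : Set Spor.Fi24) := by
    intro a ha
    rw [← hinter] at ha
    exact ha.2
  refine ⟨g * Fi24Rep.gen .i * g⁻¹, g * word d2w * g⁻¹, g * word d3w * g⁻¹,
    Cfsg.Agent.R08.FiTwentyFour.conj t1.mem g, Cfsg.Agent.R08.FiTwentyFour.conj t2.mem g,
    Cfsg.Agent.R08.FiTwentyFour.conj t3.mem g, cj c12, cj c13, cj c23,
    (hc1 _).2 (hm (Or.inl rfl)), (hc1 _).2 (hm (Or.inr (Or.inl rfl))), (hc1 _).2 (hm (Or.inr (Or.inr rfl))), ?_⟩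
  intro a ha hay
  have h1 : a = g * (g⁻¹ * a * g) * g⁻¹ := by group
  rw [h1] at hay
  have h2 : g⁻¹ * a * g ∈ L := by
    have := Cfsg.Agent.R08.FiTwentyFour.conj ha g⁻¹
    rwa [inv_inv] at this
  have h3 : g⁻¹ * a * g ∈ ({Fi24Rep.gen .i, word d2w, word d3w} : Set Spor.Fi24) := by
    rw [← hinter]
    exact ⟨h2, (hc1 _).1 hay⟩
  rcases h3 with h3 | h3 | h3
  · exact Or.inl (by rw [← h3]; exact h1)
  · exact Or.inr (Or.inl (by rw [← h3]; exact h1))
  · exact Or.inr (Or.inr (by rw [← h3]; exact h1))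

end Cfsg.Agent.H759.RG
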